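import Groth.Agent.SmoothCoh.Compare
import Groth.Prelude.Def_EtDlF

/-!
# The multiplicative group is representable by smooth algebras
-/

set_option autoImplicit false
set_option backward.isDefEq.respectTransparency.types false
set_option maxHeartbeats 1000000

universe u

open CategoryTheory CategoryTheory.Limits AlgebraicGeometry Opposite

noncomputable section

namespace Groth.SmoothCoh

theorem smRep_GmF (X : Scheme.{u}) : SmRep (EtDl.GmF X).obj := by
  intro A _ a
  let P := Localization.Away (Polynomial.X : Polynomial A)
  have hX : IsUnit (algebraMap (Polynomial A) P Polynomial.X) :=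
    IsLocalization.Away.algebraMap_isUnit _
  let Θ : ∀ (R : Type u) [CommRing R], R ≃+* Γ(Spec (CommRingCat.of R), ⊤) := fun R _ =>
    ((Scheme.ΓSpecIso (CommRingCat.of R)).symm).commRingCatIsoToRingEquiv
  haveI : Algebra.Smooth A (Polynomial A) := ⟨inferInstance, inferInstance⟩
  haveI : Algebra.Smooth (Polynomial A) P := Algebra.Smooth.of_isLocalization_Away Polynomial.X
  refine ⟨P, inferInstance, inferInstance, Algebra.Smooth.comp A (Polynomial A) P,
    ULift.up (Additive.ofMul (Units.map (Θ P).toMonoidHom hX.unit)), fun A' _ _ => ?_⟩
  have key : ∀ g : P →ₐ[A] A',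
      ((EtDl.GmF X).obj.map (aHom a g).op
        (ULift.up (Additive.ofMul (Units.map (Θ P).toMonoidHom hX.unit)))) =
      ULift.up (Additive.ofMul (Units.map (Θ A').toMonoidHom
        (Units.map g.toRingHom.toMonoidHom hX.unit))) := by
    intro g
    refine ULift.ext _ _ (congrArg Additive.ofMul (Units.ext ?_))
    show (Spec.map (CommRingCat.ofHom g.toRingHom)).appTop.hom
        ((Scheme.ΓSpecIso (CommRingCat.of P)).inv.hom _) =
      (Scheme.ΓSpecIso (CommRingCat.of A')).inv.hom (g _)
    exact (DFunLike.congr_fun (congrArg CommRingCat.Hom.hom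
      (Scheme.ΓSpecIso_inv_naturality (CommRingCat.ofHom g.toRingHom))) _).symm
  refine ⟨fun g g' h => ?_, fun y => ?_⟩
  · simp only [key] at h
    have h' : g.toRingHom (algebraMap (Polynomial A) P Polynomial.X) =
        g'.toRingHom (algebraMap (Polynomial A) P Polynomial.X) :=
      (Θ A').injective (congrArg Units.val (Additive.ofMul.injective (congrArg ULift.down h)))
    refine IsLocalization.algHom_ext (Submonoid.powers (Polynomial.X : Polynomial A))
      (Polynomial.algHom_ext ?_)
    exact h'
  · let u : A'ˣ := Units.map (Θ A').symm.toMonoidHom (Additive.toMul y.down)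
    have hu : IsUnit ((Polynomial.aeval (u : A')).toRingHom (Polynomial.X : Polynomial A)) := by
      simp
    let g : P →ₐ[A] A' :=
      { IsLocalization.Away.lift (Polynomial.X : Polynomial A) hu with
        commutes' := fun x => by
          show IsLocalization.Away.lift (Polynomial.X : Polynomial A) hu (algebraMap A P x) = _
          rw [IsScalarTower.algebraMap_apply A (Polynomial A) P, IsLocalization.Away.lift_eq]
          exact (Polynomial.aeval (u : A')).commutes x }
    refine ⟨g, (key g).trans (ULift.ext _ _ (congrArg Additive.ofMul (Units.ext ?_)))⟩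
    show Θ A' (IsLocalization.Away.lift (Polynomial.X : Polynomial A) hu
      (algebraMap (Polynomial A) P Polynomial.X)) = _
    rw [IsLocalization.Away.lift_eq]
    show Θ A' (Polynomial.aeval (u : A') (Polynomial.X : Polynomial A)) = _
    rw [Polynomial.aeval_X]
    exact (Θ A').apply_symm_apply _

end Groth.SmoothCoh
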