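import Groth.Agent.SmoothCoh.Rep
import Groth.Agent.DescentBase.BigCart.EpsBasic

/-!
# The first two steps of the Čech resolution along a finite free covering
-/

set_option autoImplicit false
set_option backward.isDefEq.respectTransparency.types false
set_option maxHeartbeats 1000000

universe u

open CategoryTheory CategoryTheory.Limits AlgebraicGeometry Opposite

noncomputable section

namespace Groth.SmoothCoh

open Groth.DescentBase.BigCart

/-- Abelian sheaves on the big fppf site. -/
abbrev AbS (S : Scheme.{u}) : Type (u + 2) := BigSite.Ab Scheme.fppfPrecoverage S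

variable {S T : Scheme.{u}} (f : T ⟶ S)

/-- Inverse image followed by direct image. -/
abbrev PP : AbS S ⥤ AbS S := pullK Scheme.fppfPrecoverage f ⋙ pushK Scheme.fppfPrecoverage f

/-- The unit. -/
abbrev uF (M : AbS S) : M ⟶ (PP f).obj M := unitK Scheme.fppfPrecoverage f M

lemma uF_naturality {M N : AbS S} (h : M ⟶ N) : h ≫ uF f N = uF f M ≫ (PP f).map h :=
  Sheaf.hom_ext (NatTrans.ext (funext fun _ => (h.hom.naturality _).symm))

/-- The first Čech differential. -/
def cα (M : AbS S) : (PP f).obj M ⟶ (PP f).obj ((PP f).obj M) :=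
  uF f ((PP f).obj M) - (PP f).map (uF f M)

/-- The second Čech differential. -/
def cβ (M : AbS S) : (PP f).obj ((PP f).obj M) ⟶ (PP f).obj ((PP f).obj ((PP f).obj M)) :=
  uF f ((PP f).obj ((PP f).obj M)) - (PP f).map (uF f ((PP f).obj M)) +
    (PP f).map ((PP f).map (uF f M))

lemma uF_cα (M : AbS S) : uF f M ≫ cα f M = 0 := by
  rw [cα, Preadditive.comp_sub, ← uF_naturality, sub_self]

lemma cα_cβ (M : AbS S) : cα f M ≫ cβ f M = 0 := by
  have h1 := uF_naturality f (uF f M)
  have h2 := uF_naturality f (uF f ((PP f).obj M))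
  have h3 := uF_naturality f ((PP f).map (uF f M))
  have h4 : (PP f).map (uF f M) ≫ (PP f).map (uF f ((PP f).obj M)) =
      (PP f).map (uF f M) ≫ (PP f).map ((PP f).map (uF f M)) := by
    rw [← Functor.map_comp, ← Functor.map_comp, h1]
  rw [cα, cβ]
  simp only [Preadditive.comp_sub, Preadditive.comp_add, Preadditive.sub_comp]
  rw [h2, h3, h4]
  abel

/-- The sheaf of cocycles. -/
abbrev cZ (M : AbS S) : AbS S := kernel (cβ f M)

/-- The inclusion of the cocycles. -/
abbrev cι (M : AbS S) : cZ f M ⟶ (PP f).obj ((PP f).obj M) := kernel.ι _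

/-- The map to the cocycles. -/
def cv (M : AbS S) : (PP f).obj M ⟶ cZ f M := kernel.lift _ (cα f M) (cα_cβ f M)

lemma cv_cι (M : AbS S) : cv f M ≫ cι f M = cα f M := kernel.lift_ι _ _ _

lemma cι_cβ (M : AbS S) : cι f M ≫ cβ f M = 0 := kernel.condition _

lemma uF_cv (M : AbS S) : uF f M ≫ cv f M = 0 := by
  unfold cv
  rw [← cancel_mono (kernel.ι (cβ f M)), Category.assoc, kernel.lift_ι, zero_comp, uF_cα]

/-- Sections over an object. -/
abbrev secF (C : Over S) : AbS S ⥤ AddCommGrpCat.{u + 1} :=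
  sheafToPresheaf _ _ ⋙ (evaluation (Over S)ᵒᵖ AddCommGrpCat.{u + 1}).obj (op C)

instance preservesFiniteLimits_secF (C : Over S) : PreservesFiniteLimits (secF C) := by
  have : PreservesFiniteLimits
      (sheafToPresheaf (QuotSh.J Scheme.fppfPrecoverage S) AddCommGrpCat.{u + 1}) :=
    (sheafificationAdjunction _ AddCommGrpCat.{u + 1}).rightAdjoint_preservesLimits.{0, 0}.preservesFiniteLimits
  infer_instance

lemma injective_app_of_monoF {M N : AbS S} (φ : M ⟶ N) [Mono φ] (C : Over S) :
    Function.Injective (φ.hom.app (op C)) :=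
  (AddCommGrpCat.mono_iff_injective _).1 (inferInstanceAs (Mono ((secF C).map φ)))

lemma exists_kernel_ι_eq {M N : AbS S} (φ : M ⟶ N) (C : Over S) (z : M.obj.obj (op C))
    (h : φ.hom.app _ z = 0) :
    ∃ y : (kernel φ).obj.obj (op C), (kernel.ι φ).hom.app _ y = z :=
  (ShortComplex.ab_exact_iff _).1 ((ShortComplex.exact_of_f_is_kernel
    (ShortComplex.mk _ φ (kernel.condition φ)) (kernelIsKernel φ)).map_of_mono_of_preservesKernel
      (secF C) (inferInstanceAs (Mono (kernel.ι φ))) inferInstance) z h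

lemma map_map (F : (Over S)ᵒᵖ ⥤ AddCommGrpCat.{u + 1}) {A B C : Over S} (g : A ⟶ B) (h : B ⟶ C)
    (x : F.obj (op C)) : F.map g.op (F.map h.op x) = F.map (g ≫ h).op x := by
  rw [op_comp, Functor.map_comp, ConcreteCategory.comp_apply]

lemma map_id_apply (F : (Over S)ᵒᵖ ⥤ AddCommGrpCat.{u + 1}) {A : Over S} (x : F.obj (op A)) :
    F.map (𝟙 A).op x = x := by
  rw [op_id, CategoryTheory.Functor.map_id]
  rfl

/-- The counit of `theta`. -/
abbrev epsC (V : Over S) : (theta f).obj V ⟶ V := (Over.mapPullbackAdj f).counit.app V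

lemma cα_app (M : AbS S) (V : Over S) (c : M.obj.obj (op ((theta f).obj V))) :
    (cα f M).hom.app (op V) c = M.obj.map ((theta f).map (epsC f V)).op c -
      M.obj.map (epsC f ((theta f).obj V)).op c :=
  rfl

lemma cβ_app (M : AbS S) (V : Over S) (z : M.obj.obj (op ((theta f).obj ((theta f).obj V)))) :
    (cβ f M).hom.app (op V) z = M.obj.map ((theta f).map ((theta f).map (epsC f V))).op z -
      M.obj.map ((theta f).map (epsC f ((theta f).obj V))).op z +
      M.obj.map (epsC f ((theta f).obj ((theta f).obj V))).op z :=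
  rfl

lemma exists_uF_eq_of_cα (M : AbS S) {V : Over S} (σ : V ⟶ (theta f).obj V)
    (hσ : σ ≫ epsC f V = 𝟙 V) (c : M.obj.obj (op ((theta f).obj V)))
    (h : (cα f M).hom.app (op V) c = 0) :
    ∃ x : M.obj.obj (op V), (uF f M).hom.app _ x = c := by
  refine ⟨M.obj.map σ.op c, ?_⟩
  show M.obj.map (epsC f V).op (M.obj.map σ.op c) = c
  have h' := (congrArg (M.obj.map ((theta f).map σ).op) h).trans (map_zero _)
  rw [cα_app, map_sub, sub_eq_zero, map_map, map_map, ← Functor.map_comp, hσ,
    CategoryTheory.Functor.map_id, map_id_apply] at h'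
  rw [map_map]
  refine (Eq.trans h' (congrArg (fun φ : (theta f).obj V ⟶ (theta f).obj V => M.obj.map φ.op c) ?_)).symm
  exact (Over.mapPullbackAdj f).counit.naturality σ

lemma exists_cα_eq_of_cβ (M : AbS S) {V : Over S} (σ : V ⟶ (theta f).obj V)
    (hσ : σ ≫ epsC f V = 𝟙 V) (z : M.obj.obj (op ((theta f).obj ((theta f).obj V))))
    (h : (cβ f M).hom.app (op V) z = 0) :
    ∃ c : M.obj.obj (op ((theta f).obj V)), (cα f M).hom.app _ c = z := by
  refine ⟨M.obj.map ((theta f).map σ).op z, ?_⟩
  have h' := (congrArg (M.obj.map ((theta f).map ((theta f).map σ)).op) h).trans (map_zero _)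
  have e1 : (theta f).map ((theta f).map σ) ≫ (theta f).map (epsC f ((theta f).obj V)) =
      (theta f).map (epsC f V) ≫ (theta f).map σ := by
    rw [← Functor.map_comp, ← Functor.map_comp]
    exact congrArg (theta f).map ((Over.mapPullbackAdj f).counit.naturality σ)
  have e2 : (theta f).map ((theta f).map σ) ≫ epsC f ((theta f).obj ((theta f).obj V)) =
      epsC f ((theta f).obj V) ≫ (theta f).map σ :=
    (Over.mapPullbackAdj f).counit.naturality ((theta f).map σ)
  rw [cβ_app, map_add, map_sub, map_map, map_map, map_map, e1, e2, ← Functor.map_comp,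
    ← Functor.map_comp, hσ, CategoryTheory.Functor.map_id, CategoryTheory.Functor.map_id,
    map_id_apply] at h'
  rw [cα_app, map_map, map_map]
  rw [sub_add, sub_eq_zero] at h'
  exact h'.symm

lemma exists_uF_eq_of_cv (M : AbS S) {V : Over S} (σ : V ⟶ (theta f).obj V)
    (hσ : σ ≫ epsC f V = 𝟙 V) (c : ((PP f).obj M).obj.obj (op V))
    (h : (cv f M).hom.app (op V) c = 0) :
    ∃ x : M.obj.obj (op V), (uF f M).hom.app _ x = c := by
  refine exists_uF_eq_of_cα f M σ hσ c ?_
  rw [← cv_cι]
  exact (congrArg ((cι f M).hom.app _) h).trans (map_zero _)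

lemma exists_cv_eq (M : AbS S) {V : Over S} (σ : V ⟶ (theta f).obj V)
    (hσ : σ ≫ epsC f V = 𝟙 V) (y : (cZ f M).obj.obj (op V)) :
    ∃ c : ((PP f).obj M).obj.obj (op V), (cv f M).hom.app _ c = y := by
  obtain ⟨c, hc⟩ := exists_cα_eq_of_cβ f M σ hσ ((cι f M).hom.app _ y)
    (ConcreteCategory.congr_hom (congrArg (fun φ => φ.hom.app (op V)) (cι_cβ f M)) y)
  refine ⟨c, ?_⟩
  have : Mono (cι f M) := inferInstanceAs (Mono (kernel.ι _))
  refine injective_app_of_monoF (cι f M) V ?_
  exact (ConcreteCategory.congr_hom (congrArg (fun φ => φ.hom.app (op V)) (cv_cι f M)) c).trans hc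

/-- The section of the counit on an object over `T`. -/
def sect (V : Over S) (k : V.left ⟶ T) (hk : k ≫ f = V.hom) : V ⟶ (theta f).obj V :=
  Over.homMk (pullback.lift (𝟙 V.left) k ((Category.id_comp _).trans hk.symm))
    ((pullback.lift_snd_assoc _ _ _ f).trans hk)

lemma sect_eps (V : Over S) (k : V.left ⟶ T) (hk : k ≫ f = V.hom) :
    sect f V k hk ≫ epsC f V = 𝟙 V := by
  apply Over.OverMorphism.ext
  show pullback.lift (𝟙 V.left) k _ ≫ ((Over.mapPullbackAdj f).counit.app V).left = 𝟙 V.left
  rw [Over.mapPullbackAdj_counit_app]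
  exact pullback.lift_fst _ _ _

variable [Flat f] [LocallyOfFinitePresentation f] [Surjective f]

/-- A sieve containing the counit is covering. -/
lemma cover_mem {C : Over S} (R : Sieve C) (hR : R (epsC f C)) :
    R ∈ QuotSh.J Scheme.fppfPrecoverage S C := by
  have h1 : Flat (pullback.fst C.hom f) := MorphismProperty.pullback_fst _ _ ‹_›
  have h2 : LocallyOfFinitePresentation (pullback.fst C.hom f) :=
    MorphismProperty.pullback_fst _ _ ‹_›
  have h3 : Surjective (pullback.fst C.hom f) := MorphismProperty.pullback_fst _ _ ‹_›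
  rw [GrothendieckTopology.mem_over_iff]
  refine GrothendieckTopology.superset_covering _ ?_
    (Precoverage.generate_mem_toGrothendieck (Scheme.Hom.singleton_mem_fppfPrecoverage (pullback.fst C.hom f)))
  rintro W g ⟨Y, k, e, ⟨⟩, rfl⟩
  refine (Sieve.overEquiv C R).downward_closed ?_ k
  rw [Sieve.overEquiv_iff]
  let j : Over.mk (pullback.fst C.hom f ≫ C.hom) ⟶ (theta f).obj C :=
    Over.homMk (𝟙 _) ((Category.id_comp _).trans pullback.condition.symm)
  have e : etHom C (pullback.fst C.hom f) = j ≫ epsC f C := Over.OverMorphism.ext (by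
    show pullback.fst C.hom f = 𝟙 _ ≫ ((Over.mapPullbackAdj f).counit.app C).left
    rw [Category.id_comp, Over.mapPullbackAdj_counit_app]
    rfl)
  show R (etHom C (pullback.fst C.hom f))
  rw [e]
  exact R.downward_closed hR j

lemma uF_injective (M : AbS S) (C : Over S) (x : M.obj.obj (op C))
    (h : (uF f M).hom.app _ x = 0) : x = 0 := by
  refine (((isSheaf_iff_isSheaf_of_type _ _).1
    ((sheafCompose (QuotSh.J Scheme.fppfPrecoverage S) (forget AddCommGrpCat.{u + 1})).obj M).2).isSeparated _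
    (cover_mem f (Sieve.generate (Presieve.singleton (epsC f C)))
      (Sieve.le_generate _ _ _ (Presieve.singleton_self _)))).ext fun V g hg => ?_
  obtain ⟨Y, k, e, ⟨⟩, rfl⟩ := hg
  show M.obj.map (k ≫ epsC f C).op x = M.obj.map (k ≫ epsC f C).op 0
  rw [map_zero, ← map_map]
  exact (congrArg (M.obj.map k.op) h).trans (map_zero _)

lemma mono_uF (M : AbS S) : Mono (uF f M) := by
  refine Preadditive.mono_of_cancel_zero _ fun {N} a ha => ?_
  refine Sheaf.hom_ext (NatTrans.ext (funext fun C => AddCommGrpCat.ext fun x => ?_))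
  exact uF_injective f M C.unop _ (ConcreteCategory.congr_hom (congrArg (fun φ => φ.hom.app C) ha) x)

lemma epi_cv (M : AbS S) : Epi (cv f M) := by
  refine (Sheaf.isLocallySurjective_iff_epi' AddCommGrpCat.{u + 1} (cv f M)).1
    ⟨fun {C} y => cover_mem f _ ?_⟩
  exact exists_cv_eq f M (sect f _ (pullback.snd C.hom f) rfl) (sect_eps f _ _ _)
    ((cZ f M).obj.map (epsC f C).op y)

/-- `0 → M → f_* f^* M → Z → 0` is exact. -/
theorem shortExact_cv (M : AbS S) : (ShortComplex.mk (uF f M) (cv f M) (uF_cv f M)).ShortExact where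
  mono_f := mono_uF f M
  epi_g := epi_cv f M
  exact := by
    rw [ShortComplex.exact_iff_epi_kernel_lift]
    refine (Sheaf.isLocallySurjective_iff_epi' AddCommGrpCat.{u + 1} _).1
      ⟨fun {C} y => cover_mem f _ ?_⟩
    let y' := (kernel (cv f M)).obj.map (epsC f C).op y
    obtain ⟨x, hx⟩ := exists_uF_eq_of_cv f M (sect f _ (pullback.snd C.hom f) rfl) (sect_eps f _ _ _)
      ((kernel.ι (cv f M)).hom.app _ y')
      (ConcreteCategory.congr_hom (congrArg (fun φ => φ.hom.app _) (kernel.condition (cv f M))) y')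
    refine ⟨x, injective_app_of_monoF (kernel.ι (cv f M)) _ ?_⟩
    exact (ConcreteCategory.congr_hom
      (congrArg (fun φ => φ.hom.app _) (kernel.lift_ι (cv f M) (uF f M) (uF_cv f M))) x).trans hx

end Groth.SmoothCoh
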