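import Groth.Agent.SmoothCoh.Cech
import Groth.Agent.FppfSmooth.Basic
import Groth.Agent.S0412
import Mathlib.RingTheory.Etale.Descent
import Mathlib.RingTheory.Smooth.Flat

/-!
# The sheaf of cocycles is representable by smooth algebras
-/

set_option autoImplicit false
set_option backward.isDefEq.respectTransparency.types false
set_option maxHeartbeats 1000000

universe u

open CategoryTheory CategoryTheory.Limits AlgebraicGeometry Opposite TensorProduct

noncomputable section

namespace Groth.SmoothCoh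

open Groth.DescentBase.BigCart

variable {A₀ B₀ : Type u} [CommRing A₀] [CommRing B₀] [Algebra A₀ B₀]

/-- The morphism of an algebra. -/
abbrev fB (A₀ B₀ : Type u) [CommRing A₀] [CommRing B₀] [Algebra A₀ B₀] :
    Spec (CommRingCat.of B₀) ⟶ Spec (CommRingCat.of A₀) :=
  Spec.map (CommRingCat.ofHom (algebraMap A₀ B₀))

variable [Module.Free A₀ B₀] [Module.Finite A₀ B₀]

instance flat_fB : Flat (fB A₀ B₀) :=
  (HasRingHomProperty.Spec_iff (P := @Flat)).2 (RingHom.flat_algebraMap_iff.2 inferInstance)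

instance lfp_fB : LocallyOfFinitePresentation (fB A₀ B₀) :=
  (HasRingHomProperty.Spec_iff (P := @LocallyOfFinitePresentation)).2
    (RingHom.finitePresentation_algebraMap.2
      ((Module.FinitePresentation.iff_finitePresentation_of_finite (R := A₀) (S := B₀)).1
        (Module.finitePresentation_of_projective A₀ B₀)))

instance finite_fB : IsFinite (fB A₀ B₀) :=
  (IsFinite.SpecMap_iff _).2 (RingHom.finite_algebraMap.2 inferInstance)

variable [Module.FaithfullyFlat A₀ B₀]

instance surjective_fB : Surjective (fB A₀ B₀) :=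
  ⟨PrimeSpectrum.comap_surjective_of_faithfullyFlat (A := A₀) (B := B₀)⟩

variable (M : AbS (Spec (CommRingCat.of A₀)))

lemma exists_sect_aObj {A : Type u} [CommRing A] (φ : CommRingCat.of A₀ ⟶ CommRingCat.of A) (A' : Type u)
    [CommRing A'] [Algebra A A'] (r : B₀ →+* A')
    (hr : r.comp (algebraMap A₀ B₀) = (algebraMap A A').comp φ.hom) :
    ∃ σ : aObj (Spec.map φ) A' ⟶ (theta (fB A₀ B₀)).obj (aObj (Spec.map φ) A'),
      σ ≫ epsC (fB A₀ B₀) _ = 𝟙 _ := by
  refine ⟨sect (fB A₀ B₀) _ (Spec.map (CommRingCat.ofHom r)) ?_, sect_eps _ _ _ _⟩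
  show Spec.map _ ≫ Spec.map _ = Spec.map _ ≫ Spec.map φ
  rw [← Spec.map_comp, ← Spec.map_comp]
  exact congrArg Spec.map (CommRingCat.hom_ext hr)

/-- The cocycles are representable by algebras of finite presentation. -/
theorem exists_rep_cZ (hM : SmRep M.obj) (A : Type u) [CommRing A]
    (a : Spec (CommRingCat.of A) ⟶ Spec (CommRingCat.of A₀)) :
    ∃ (PZ : Type u) (_ : CommRing PZ) (_ : Algebra A PZ), Algebra.FinitePresentation A PZ ∧
      ∃ ζ : (cZ (fB A₀ B₀) M).obj.obj (op (aObj a PZ)), IsUniv (cZ (fB A₀ B₀) M).obj a ζ := by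
  have hP2 : SmRep ((PP (fB A₀ B₀)).obj ((PP (fB A₀ B₀)).obj M)).obj := smRep_phi (smRep_phi hM)
  have hP3 : SmRep ((PP (fB A₀ B₀)).obj ((PP (fB A₀ B₀)).obj ((PP (fB A₀ B₀)).obj M))).obj :=
    smRep_phi hP2
  obtain ⟨P2, _, _, _, z2, hz2⟩ := hP2 A a
  obtain ⟨P3, _, _, _, z3, hz3⟩ := hP3 A a
  let β := cβ (fB A₀ B₀) M
  let ι := cι (fB A₀ B₀) M
  obtain ⟨g, hg⟩ := (hz3 P2).2 (β.hom.app _ z2)
  obtain ⟨e, he⟩ := (hz3 A).2 0
  let I : Ideal P2 := (RingHom.ker e.toRingHom).map g.toRingHom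
  let q : P2 →ₐ[A] P2 ⧸ I := Ideal.Quotient.mkₐ A I
  have hsurj : Function.Surjective e := fun x => ⟨algebraMap A P3 x, e.commutes x⟩
  have hfg : I.FG := (Algebra.FinitePresentation.ker_fG_of_surjective e hsurj).map _
  have key : ∀ (A' : Type u) [CommRing A'] [Algebra A A'] (h : P2 →ₐ[A] A'),
      β.hom.app _ (((PP (fB A₀ B₀)).obj ((PP (fB A₀ B₀)).obj M)).obj.map (aHom a h).op z2) = 0 ↔
        ∀ x ∈ I, h x = 0 := by
    intro A' _ _ h
    have hzero : ((PP (fB A₀ B₀)).obj ((PP (fB A₀ B₀)).obj ((PP (fB A₀ B₀)).obj M))).obj.map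
        (aHom a ((Algebra.ofId A A').comp e)).op z3 = 0 := by
      rw [aHom_comp, ← map_map]
      exact (congrArg _ he).trans (map_zero _)
    have hβ : β.hom.app _ (((PP (fB A₀ B₀)).obj ((PP (fB A₀ B₀)).obj M)).obj.map (aHom a h).op z2) =
        ((PP (fB A₀ B₀)).obj ((PP (fB A₀ B₀)).obj ((PP (fB A₀ B₀)).obj M))).obj.map
          (aHom a (h.comp g)).op z3 := by
      rw [aHom_comp, ← map_map]
      exact (ConcreteCategory.congr_hom (β.hom.naturality (aHom a h).op) z2).trans
        (congrArg _ hg.symm)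
    rw [hβ]
    constructor
    · intro h0 x hx
      have hh : h.comp g = (Algebra.ofId A A').comp e := (hz3 A').1 (h0.trans hzero.symm)
      refine RingHom.mem_ker.1 (show x ∈ RingHom.ker h.toRingHom from ?_)
      refine (Ideal.map_le_iff_le_comap.2 fun y hy => ?_ : I ≤ RingHom.ker h.toRingHom) hx
      show h (g y) = 0
      rw [← AlgHom.comp_apply, hh, AlgHom.comp_apply, show e y = 0 from hy, map_zero]
    · intro h0
      have hh : h.comp g = (Algebra.ofId A A').comp e := AlgHom.ext fun y => by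
        have hy : y - algebraMap A P3 (e y) ∈ RingHom.ker e.toRingHom := by
          show e (y - algebraMap A P3 (e y)) = 0
          rw [map_sub, e.commutes]
          exact sub_self _
        have := h0 _ (Ideal.mem_map_of_mem g.toRingHom hy)
        change h (g (y - algebraMap A P3 (e y))) = 0 at this
        rw [map_sub, map_sub, g.commutes, h.commutes, sub_eq_zero] at this
        exact this
      rw [hh]
      exact hzero
  obtain ⟨ζ, hζ⟩ := exists_kernel_ι_eq β _ _
    ((key (P2 ⧸ I) q).2 fun x hx => Ideal.Quotient.eq_zero_iff_mem.2 hx)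
  refine ⟨P2 ⧸ I, inferInstance, inferInstance, Algebra.FinitePresentation.quotient hfg, ζ,
    fun A' _ _ => ?_⟩
  have nat : ∀ k : P2 ⧸ I →ₐ[A] A', ι.hom.app _ ((cZ (fB A₀ B₀) M).obj.map (aHom a k).op ζ) =
      ((PP (fB A₀ B₀)).obj ((PP (fB A₀ B₀)).obj M)).obj.map (aHom a (k.comp q)).op z2 := fun k => by
    rw [aHom_comp, ← map_map, ← hζ]
    exact ConcreteCategory.congr_hom (ι.hom.naturality (aHom a k).op) ζ
  refine ⟨fun k k' hk => Ideal.Quotient.algHom_ext _ ((hz2 A').1 ?_), fun y => ?_⟩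
  · exact (nat k).symm.trans ((congrArg (ι.hom.app _) hk).trans (nat k'))
  · obtain ⟨h, hh⟩ := (hz2 A').2 (ι.hom.app _ y)
    have h0 := (key A' h).1 ((congrArg (β.hom.app _) hh).trans
      (ConcreteCategory.congr_hom
        (congrArg (fun φ => φ.hom.app (op (aObj a A'))) (cι_cβ (fB A₀ B₀) M)) y))
    refine ⟨Ideal.Quotient.liftₐ I h h0, ?_⟩
    refine injective_app_of_monoF ι _ ((nat _).trans (Eq.trans ?_ hh))
    exact congrArg (fun k => ((PP (fB A₀ B₀)).obj ((PP (fB A₀ B₀)).obj M)).obj.map (aHom a k).op z2)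
      (AlgHom.ext fun x => rfl)

/-- The map to the cocycles is represented by a smooth surjective morphism. -/
theorem exists_smooth_cv (hM : SmRep M.obj) (A : Type u) [CommRing A]
    (a : Spec (CommRingCat.of A) ⟶ Spec (CommRingCat.of A₀)) {PZ : Type u} [CommRing PZ] [Algebra A PZ]
    [Algebra.FinitePresentation A PZ]
    (ζ : (cZ (fB A₀ B₀) M).obj.obj (op (aObj a PZ))) (hζ : IsUniv (cZ (fB A₀ B₀) M).obj a ζ) :
    ∃ (P1 : Type u) (_ : CommRing P1) (_ : Algebra A P1), Algebra.Smooth A P1 ∧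
      ∃ (z1 : ((PP (fB A₀ B₀)).obj M).obj.obj (op (aObj a P1))) (h : PZ →ₐ[A] P1),
        h.toRingHom.Smooth ∧ Function.Surjective (PrimeSpectrum.comap h.toRingHom) ∧
        (cv (fB A₀ B₀) M).hom.app _ z1 = (cZ (fB A₀ B₀) M).obj.map (aHom a h).op ζ := by
  obtain ⟨φ, rfl⟩ := Spec.map_surjective a
  letI : Algebra A₀ A := φ.hom.toAlgebra
  let a := Spec.map φ
  let P := fB A₀ B₀
  let Z := cZ P M
  let v := cv P M
  obtain ⟨P0, _, _, hP0, z0, hz0⟩ := hM A a
  obtain ⟨P1, _, _, hP1, z1, hz1⟩ := (smRep_phi (B₀ := B₀) hM : SmRep ((PP P).obj M).obj) A a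
  let F1 := ((PP P).obj M).obj
  obtain ⟨h, hh⟩ := (hζ P1).2 (v.hom.app _ z1)
  letI : Algebra PZ P1 := h.toRingHom.toAlgebra
  haveI : IsScalarTower A PZ P1 := IsScalarTower.of_algebraMap_eq fun x => (h.commutes x).symm
  let B := A ⊗[A₀] B₀
  let Q := PZ ⊗[A] B
  let w : PZ →ₐ[A] Q := IsScalarTower.toAlgHom A PZ Q
  let rQ : B₀ →+* Q := (Algebra.TensorProduct.includeRight : B →ₐ[A] Q).toRingHom.comp
    (Algebra.TensorProduct.includeRight : B₀ →ₐ[A₀] B).toRingHom
  have hrQ : rQ.comp (algebraMap A₀ B₀) = (algebraMap A Q).comp φ.hom := by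
    refine RingHom.ext fun x => ?_
    show (Algebra.TensorProduct.includeRight : B →ₐ[A] Q) ((Algebra.TensorProduct.includeRight :
      B₀ →ₐ[A₀] B) (algebraMap A₀ B₀ x)) = _
    rw [AlgHom.commutes, IsScalarTower.algebraMap_apply A₀ A B, AlgHom.commutes]
    rfl
  obtain ⟨σ, hσ⟩ := exists_sect_aObj φ Q rQ hrQ
  obtain ⟨cQ, hcQ⟩ := exists_cv_eq P M σ hσ (Z.obj.map (aHom a w).op ζ)
  obtain ⟨gc, rfl⟩ := (hz1 Q).2 cQ
  have natv : ∀ {A' : Type u} [CommRing A'] [Algebra A A'] (k : P1 →ₐ[A] A'),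
      v.hom.app _ (F1.map (aHom a k).op z1) = Z.obj.map (aHom a (k.comp h)).op ζ := fun k => by
    rw [aHom_comp, ← map_map]
    exact (ConcreteCategory.congr_hom (v.hom.naturality (aHom a k).op) z1).trans
      (congrArg _ hh.symm)
  have hgc : gc.comp h = w := (hζ Q).1 ((natv gc).symm.trans hcQ)
  haveI : Module.FaithfullyFlat A B := inferInstance
  haveI : Module.FaithfullyFlat PZ Q := inferInstance
  have hsurj : Function.Surjective (PrimeSpectrum.comap h.toRingHom) := fun p => by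
    obtain ⟨q, hq⟩ := PrimeSpectrum.comap_surjective_of_faithfullyFlat (A := PZ) (B := Q) p
    refine ⟨PrimeSpectrum.comap gc.toRingHom q, ?_⟩
    rw [← PrimeSpectrum.comap_comp_apply, ← hq]
    exact congrArg (fun r => PrimeSpectrum.comap r q) (congrArg AlgHom.toRingHom hgc)
  haveI : Algebra.FinitePresentation PZ P1 :=
    Algebra.FinitePresentation.of_restrict_scalars_finitePresentation A PZ P1
  let R1 := Q ⊗[PZ] P1
  haveI : Algebra.FormallySmooth Q R1 := by
    refine Algebra.FormallySmooth.of_comp_surjective fun C _ _ J hJ fbar => ?_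
    letI : Algebra A C := ((algebraMap Q C).comp (algebraMap A Q)).toAlgebra
    haveI : IsScalarTower A Q C := (IsScalarTower.of_algebraMap_eq (R := A) (S := Q) (A := C) (fun x => rfl) :)
    letI : Algebra PZ C := ((algebraMap Q C).comp (algebraMap PZ Q)).toAlgebra
    haveI : IsScalarTower PZ Q C := (IsScalarTower.of_algebraMap_eq (R := PZ) (S := Q) (A := C) (fun x => rfl) :)
    let π : C →ₐ[A] C ⧸ J := Ideal.Quotient.mkₐ A J
    let kC : Q →ₐ[A] C := IsScalarTower.toAlgHom A Q C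
    let kbar : P1 →ₐ[A] C ⧸ J := (fbar.restrictScalars A).comp
      ((Algebra.TensorProduct.includeRight : P1 →ₐ[PZ] R1).restrictScalars A)
    have hkbar : kbar.comp h = (π.comp kC).comp w := AlgHom.ext fun x => by
      show fbar ((Algebra.TensorProduct.includeRight : P1 →ₐ[PZ] R1) (algebraMap PZ P1 x)) =
        Ideal.Quotient.mk J (algebraMap Q C (algebraMap PZ Q x))
      rw [AlgHom.commutes, IsScalarTower.algebraMap_apply PZ Q R1, AlgHom.commutes]
      rfl
    let cbar := F1.map (aHom a kbar).op z1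
    let c0 := F1.map (aHom a ((π.comp kC).comp gc)).op z1
    have hc : v.hom.app _ (cbar - c0) = 0 := by
      rw [map_sub, sub_eq_zero]
      refine (natv _).trans (Eq.trans ?_ (natv _).symm)
      rw [hkbar, AlgHom.comp_assoc (π.comp kC) gc h, hgc]
    let rJ : B₀ →+* C ⧸ J := (π.comp kC).toRingHom.comp rQ
    have hrJ : rJ.comp (algebraMap A₀ B₀) = (algebraMap A (C ⧸ J)).comp φ.hom := by
      refine RingHom.ext fun x => ?_
      show π (kC ((rQ.comp (algebraMap A₀ B₀)) x)) = _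
      rw [hrQ]
      exact (π.comp kC).commutes (φ.hom x)
    obtain ⟨τ, hτ⟩ := exists_sect_aObj φ (C ⧸ J) rJ hrJ
    obtain ⟨xbar, hxbar⟩ := exists_uF_eq_of_cv P M τ hτ _ hc
    obtain ⟨mbar, rfl⟩ := (hz0 (C ⧸ J)).2 xbar
    obtain ⟨m, hm⟩ := Algebra.FormallySmooth.comp_surjective A P0 J hJ mbar
    let cC : F1.obj (op (aObj a C)) := F1.map (aHom a (kC.comp gc)).op z1 +
      (uF P M).hom.app _ (M.obj.map (aHom a m).op z0)
    obtain ⟨k, hk⟩ := (hz1 C).2 cC
    have hπk : π.comp k = kbar := (hz1 (C ⧸ J)).1 (by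
      show F1.map (aHom a (π.comp k)).op z1 = F1.map (aHom a kbar).op z1
      rw [aHom_comp, ← map_map]
      refine (congrArg (F1.map (aHom a π).op) hk).trans ?_
      rw [map_add, map_map, ← aHom_comp]
      have hu : F1.map (aHom a π).op ((uF P M).hom.app _ (M.obj.map (aHom a m).op z0)) = cbar - c0 := by
        refine Eq.trans ?_ hxbar
        refine (ConcreteCategory.congr_hom ((uF P M).hom.naturality (aHom a π).op) _).symm.trans ?_
        refine congrArg ((uF P M).hom.app _) ?_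
        rw [← hm]
        exact (map_map _ _ _ _).trans
          (congrArg (fun r => M.obj.map r.op z0) (aHom_comp a m π).symm)
      rw [hu, ← AlgHom.comp_assoc]
      exact add_sub_cancel _ _)
    have hkh : k.comp h = kC.comp w := (hζ C).1 (by
      refine (natv k).symm.trans ((congrArg (v.hom.app _) hk).trans ?_)
      rw [map_add]
      refine (congrArg₂ (· + ·) (natv _) (ConcreteCategory.congr_hom
        (congrArg (fun φ => φ.hom.app (op (aObj a C))) (uF_cv P M)) _)).trans ?_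
      rw [AlgHom.comp_assoc, hgc]
      exact add_zero _)
    let k' : P1 →ₐ[PZ] C := { k.toRingHom with commutes' := fun x => DFunLike.congr_fun hkh x }
    refine ⟨Algebra.TensorProduct.lift (Algebra.ofId Q C) k' fun _ _ => Commute.all _ _,
      Algebra.TensorProduct.ext (Subsingleton.elim _ _) (AlgHom.ext fun x => ?_)⟩
    show Ideal.Quotient.mk J (Algebra.TensorProduct.lift (Algebra.ofId Q C) k'
        (fun _ _ => Commute.all _ _) ((1 : Q) ⊗ₜ[PZ] x)) = fbar ((1 : Q) ⊗ₜ[PZ] x)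
    rw [Algebra.TensorProduct.lift_tmul, map_one, one_mul]
    exact DFunLike.congr_fun hπk x
  haveI : Algebra.Smooth Q R1 := ⟨inferInstance, inferInstance⟩
  haveI : Algebra.Smooth PZ P1 := Algebra.Smooth.of_smooth_tensorProduct_of_faithfullyFlat Q
  exact ⟨P1, inferInstance, inferInstance, hP1, z1, h, RingHom.smooth_algebraMap.2 inferInstance,
    hsurj, hh.symm⟩

/-- The cocycles are representable by smooth algebras. -/
theorem smRep_cZ (hM : SmRep M.obj) : SmRep (cZ (fB A₀ B₀) M).obj := by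
  intro A _ a
  obtain ⟨PZ, _, _, hfp, ζ, hζ⟩ := exists_rep_cZ (B₀ := B₀) M hM A a
  obtain ⟨P1, _, _, hP1, z1, h, hs, hc, -⟩ := exists_smooth_cv M hM A a ζ hζ
  letI : Algebra PZ P1 := h.toRingHom.toAlgebra
  haveI : IsScalarTower A PZ P1 := IsScalarTower.of_algebraMap_eq fun x => (h.commutes x).symm
  haveI : Algebra.Smooth PZ P1 := hs
  haveI : Module.FaithfullyFlat PZ P1 := Module.FaithfullyFlat.of_comap_surjective hc
  exact ⟨PZ, inferInstance, inferInstance, Groth.FppfSmooth.smooth_of_fppf_tower A PZ P1, ζ, hζ⟩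

/-- The map to the cocycles is surjective étale locally. -/
theorem exists_etale_lift (hM : SmRep M.obj) (C : Over (Spec (CommRingCat.of A₀)))
    (y : (cZ (fB A₀ B₀) M).obj.obj (op C)) (x : C.left) :
    ∃ (V : Over (Spec (CommRingCat.of A₀))) (g : V ⟶ C), Etale g.left ∧ x ∈ Set.range g.left.base ∧
      ∃ c : ((PP (fB A₀ B₀)).obj M).obj.obj (op V),
        (cv (fB A₀ B₀) M).hom.app _ c = (cZ (fB A₀ B₀) M).obj.map g.op y := by
  obtain ⟨U, hU, hxU, -⟩ := exists_isAffineOpen_mem_and_subset (U := (⊤ : C.left.Opens))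
    (show x ∈ (⊤ : C.left.Opens) from trivial)
  let A : Type u := Γ(C.left, U)
  let a : Spec (CommRingCat.of A) ⟶ Spec (CommRingCat.of A₀) := hU.fromSpec ≫ C.hom
  let j : aObj a A ⟶ C := Over.homMk hU.fromSpec (by
    show hU.fromSpec ≫ C.hom = Spec.map (CommRingCat.ofHom (RingHom.id A)) ≫ a
    rw [CommRingCat.ofHom_id, Spec.map_id, Category.id_comp])
  obtain ⟨PZ, _, _, hfp, ζ, hζ⟩ := exists_rep_cZ (B₀ := B₀) M hM A a
  obtain ⟨P1, _, _, hP1, z1, h, hs, hc, hv⟩ := exists_smooth_cv M hM A a ζ hζ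
  obtain ⟨g, hg⟩ := (hζ A).2 ((cZ (fB A₀ B₀) M).obj.map j.op y)
  letI : Algebra PZ A := g.toRingHom.toAlgebra
  letI : Algebra PZ P1 := h.toRingHom.toAlgebra
  haveI : IsScalarTower A PZ A := IsScalarTower.of_algebraMap_eq fun x => (g.commutes x).symm
  haveI : IsScalarTower A PZ P1 := IsScalarTower.of_algebraMap_eq fun x => (h.commutes x).symm
  haveI : Algebra.Smooth PZ P1 := hs
  haveI : Module.FaithfullyFlat PZ P1 := Module.FaithfullyFlat.of_comap_surjective hc
  let R := A ⊗[PZ] P1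
  let p : Spec (CommRingCat.of R) ⟶ Spec (CommRingCat.of A) :=
    Spec.map (CommRingCat.ofHom (algebraMap A R))
  haveI : Smooth p := HasRingHomProperty.Spec_iff (P := @Smooth).2
    (RingHom.smooth_algebraMap.2 inferInstance)
  obtain ⟨s, hs'⟩ : x ∈ Set.range hU.fromSpec.base := by
    rw [hU.range_fromSpec]
    exact hxU
  obtain ⟨S', e, s', he, hes', k, hk⟩ := Groth.Agent.S0412.result p s
    (PrimeSpectrum.comap_surjective_of_faithfullyFlat (A := A) (B := R) s)
  let ι1 : P1 →ₐ[A] R := (Algebra.TensorProduct.includeRight : P1 →ₐ[PZ] R).restrictScalars A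
  have hι1 : ι1.comp h = (Algebra.ofId A R).comp g := AlgHom.ext fun z =>
    (Algebra.TensorProduct.includeRight : P1 →ₐ[PZ] R).commutes z
  let kR : Over.mk (e ≫ a) ⟶ aObj a R := Over.homMk k (by
    show k ≫ p ≫ a = e ≫ a
    rw [← Category.assoc, hk])
  let l := kR ≫ aHom a (Algebra.ofId A R) ≫ j
  have hl : l.left = e ≫ hU.fromSpec := by
    show k ≫ Spec.map (CommRingCat.ofHom (Algebra.ofId A R).toRingHom) ≫ hU.fromSpec = _
    exact (Category.assoc _ _ _).symm.trans (congrArg (· ≫ hU.fromSpec) hk)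
  refine ⟨_, l, ?_, ⟨s', ?_⟩, ((PP (fB A₀ B₀)).obj M).obj.map (kR ≫ aHom a ι1).op z1, ?_⟩
  · rw [hl]
    infer_instance
  · show l.left s' = x
    rw [hl, Scheme.Hom.comp_apply, hes']
    exact hs'
  · refine (ConcreteCategory.congr_hom
      ((cv (fB A₀ B₀) M).hom.naturality (kR ≫ aHom a ι1).op) z1).trans ?_
    refine (congrArg ((cZ (fB A₀ B₀) M).obj.map (kR ≫ aHom a ι1).op) hv).trans ?_
    rw [map_map, Category.assoc, ← aHom_comp, hι1, aHom_comp, ← map_map, ← map_map,
      show (cZ (fB A₀ B₀) M).obj.map (aHom a g).op ζ = (cZ (fB A₀ B₀) M).obj.map j.op y from hg,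
      map_map, map_map, Category.assoc]

end Groth.SmoothCoh
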