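import Groth.Agent.SmoothCoh.Vanish
import Groth.Agent.DescentBase.BigCart.Compare

/-!
# `H^p(S_et, M|) = H^p_fppf(S, M)` for presheaves representable by smooth algebras
-/

set_option autoImplicit false
set_option backward.isDefEq.respectTransparency.types false
set_option maxHeartbeats 1000000

universe u

open CategoryTheory CategoryTheory.Limits AlgebraicGeometry Opposite

noncomputable section

namespace Groth.SmoothCoh

open Groth.DescentBase.BigCart

local notation "K" => Scheme.fppfPrecoverage

variable {S : Scheme.{u}}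

theorem isZero_RresEt {M : AbS S} (hM : SmRep M.obj) (q : ℕ) (hq : 0 < q) :
    IsZero ((BigSite.RresEt K S q).obj M) := by
  obtain ⟨a⟩ := Groth.SiteCohomology.nonempty_rightDerived_comp_exact (epsK K S)
    (BigSite.resEt Scheme.etalePrecoverage S) (BigSite.resEt K S) (resEtIso K S) M q
  exact ((BigSite.resEt Scheme.etalePrecoverage S).map_isZero (isZero_Reps hM q hq)).of_iso a

/-- `H^p(S_et, M|) = H^p_fppf(S, M)`. -/
theorem nonempty_H_equiv {M : AbS S} (hM : SmRep M.obj) (p : ℕ) :
    Nonempty (EtCoh.H S ((BigSite.resEt K S).obj M) p ≃+ BigSite.H K S M p) := by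
  obtain ⟨e⟩ := nonempty_ext_adjunction_equiv_of_acyclic (BigSite.piEtAdj K S)
    (fun I hI => @Groth.SiteCohomology.injective_resEt _ K _ I hI)
    ((constantSheaf S.smallEtaleTopology AddCommGrpCat.{u + 1}).obj
      (AddCommGrpCat.of (ULift ℤ))) M (fun k => isZero_RresEt hM (k + 1) (Nat.succ_pos k)) p
  obtain ⟨i⟩ := Groth.SiteCohomology.nonempty_piEtPull_constantSheaf_iso K S
  exact ⟨e.trans (Groth.SiteCohomology.extIsoLeft (i.app (AddCommGrpCat.of (ULift ℤ))) M p).symm⟩

end Groth.SmoothCoh
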