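import Groth.Agent.DescentBase.BigCart.Vanish
import Groth.Agent.SmoothCoh.CechRep
import Mathlib.RingTheory.Spectrum.Prime.FreeLocus

/-!
# Separation for the fppf topology from injectivity along finite free coverings
-/

set_option autoImplicit false
set_option backward.isDefEq.respectTransparency.types false
set_option maxHeartbeats 1000000

universe u

open CategoryTheory CategoryTheory.Limits AlgebraicGeometry Opposite TensorProduct

noncomputable section

namespace Groth.SmoothCoh

open Groth.DescentBase.BigCart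

/-- An étale sheaf with injective restrictions along finite free coverings of affine schemes. -/
def FreeInj {S : Scheme.{u}} (L : AbB S) : Prop :=
  ∀ (A B : Type u) [CommRing A] [CommRing B] [Algebra A B] [Module.Free A B] [Module.Finite A B]
    [Module.FaithfullyFlat A B] (c : Spec (CommRingCat.of A) ⟶ S) (s : L.obj.obj (op (Over.mk c))),
    L.obj.map (Over.homMk (U := Over.mk (fB A B ≫ c)) (V := Over.mk c) (fB A B)).op s = 0 → s = 0

/-- Near every prime a finite flat algebra of finite presentation becomes free. -/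
lemma exists_away_free (A B : Type u) [CommRing A] [CommRing B] [Algebra A B] [Module.Finite A B]
    [Module.Flat A B] [Module.FinitePresentation A B] (p : PrimeSpectrum A) :
    ∃ r : A, r ∉ p.asIdeal ∧ Module.Free (Localization.Away r) (Localization.Away r ⊗[A] B) := by
  haveI : Module.Free (Localization.AtPrime p.asIdeal) (LocalizedModule p.asIdeal.primeCompl B) :=
    Module.mem_freeLocus.1 (Module.freeLocus_eq_univ (R := A) (M := B) ▸ Set.mem_univ p)
  obtain ⟨r, hr, hr', -⟩ := Module.FinitePresentation.exists_free_localizedModule_powers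
    p.asIdeal.primeCompl (LocalizedModule.mkLinearMap p.asIdeal.primeCompl B)
    (Localization.AtPrime p.asIdeal)
  exact ⟨r, hr, Module.Free.of_equiv' hr' (LocalizedModule.equivTensorProduct (.powers r) B)⟩

variable {S : Scheme.{u}} {L : AbB S}

lemma eq_zero_of_finLocFree (hL : FreeInj L) {C D : Over S} (g : D ⟶ C)
    (hg : Mor2.IsFinLocFree g.left) (hgs : Surjective g.left) (s : L.obj.obj (op C))
    (hs : L.obj.map g.op s = 0) : s = 0 := by
  obtain ⟨hgf, hgfl, hgfp⟩ := hg
  refine eq_zero_of_locally L s fun x => ?_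
  obtain ⟨U, hU, hxU, -⟩ := exists_isAffineOpen_mem_and_subset (U := (⊤ : C.left.Opens))
    (show x ∈ (⊤ : C.left.Opens) from trivial)
  let A : Type u := Γ(C.left, U)
  let q := pullback.snd g.left hU.fromSpec
  have : IsFinite q := MorphismProperty.pullback_snd _ _ hgf
  have : Flat q := MorphismProperty.pullback_snd _ _ hgfl
  have : LocallyOfFinitePresentation q := MorphismProperty.pullback_snd _ _ hgfp
  have : Surjective q := MorphismProperty.pullback_snd _ _ hgs
  have : IsAffine (pullback g.left hU.fromSpec) := isAffine_of_isAffineHom q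
  let E := pullback g.left hU.fromSpec
  let q' : Spec Γ(E, ⊤) ⟶ Spec (CommRingCat.of A) := E.isoSpec.inv ≫ q
  obtain ⟨ψ, hψ⟩ := Spec.map_surjective q'
  let B : Type u := Γ(E, ⊤)
  letI : Algebra A B := ψ.hom.toAlgebra
  have hψ' : fB A B = q' := hψ
  have : IsFinite q' := inferInstanceAs (IsFinite (E.isoSpec.inv ≫ q))
  have : Flat q' := inferInstanceAs (Flat (E.isoSpec.inv ≫ q))
  have : LocallyOfFinitePresentation q' :=
    inferInstanceAs (LocallyOfFinitePresentation (E.isoSpec.inv ≫ q))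
  have : Surjective q' := inferInstanceAs (Surjective (E.isoSpec.inv ≫ q))
  haveI : Module.Finite A B := RingHom.finite_algebraMap.1 ((IsFinite.SpecMap_iff _).1 (hψ ▸ ‹IsFinite q'› : IsFinite (Spec.map ψ)))
  haveI : Module.Flat A B := RingHom.flat_algebraMap_iff.1
    ((HasRingHomProperty.Spec_iff (P := @Flat)).1 (hψ ▸ ‹Flat q'› : Flat (Spec.map ψ)))
  haveI : Algebra.FinitePresentation A B := RingHom.finitePresentation_algebraMap.1
    ((HasRingHomProperty.Spec_iff (P := @LocallyOfFinitePresentation)).1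
      (hψ ▸ ‹LocallyOfFinitePresentation q'› : LocallyOfFinitePresentation (Spec.map ψ)))
  haveI : Module.FinitePresentation A B :=
    (Module.FinitePresentation.iff_finitePresentation_of_finite (R := A) (S := B)).2 inferInstance
  haveI : Module.FaithfullyFlat A B :=
    Module.FaithfullyFlat.of_comap_surjective ((hψ' ▸ ‹Surjective q'› : Surjective (fB A B)).surj)
  obtain ⟨p, hp⟩ : x ∈ Set.range hU.fromSpec.base := by
    rw [hU.range_fromSpec]
    exact hxU
  obtain ⟨r, hr, hfree⟩ := exists_away_free A B p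
  let A' := Localization.Away r
  let B' := A' ⊗[A] B
  let o : Spec (CommRingCat.of A') ⟶ C.left :=
    Spec.map (CommRingCat.ofHom (algebraMap A A')) ≫ hU.fromSpec
  have : IsOpenImmersion (Spec.map (CommRingCat.ofHom (algebraMap A A'))) :=
    IsOpenImmersion.of_isLocalization r
  refine ⟨_, etHom C o, inferInstanceAs (Etale o), ?_, ?_⟩
  · obtain ⟨p', hp'⟩ : p ∈ Set.range (PrimeSpectrum.comap (algebraMap A A')) := by
      rw [PrimeSpectrum.localization_away_comap_range A' r]
      exact hr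
    refine ⟨p', ?_⟩
    show o p' = x
    rw [Scheme.Hom.comp_apply, show Spec.map (CommRingCat.ofHom (algebraMap A A')) p' = p from hp']
    exact hp
  · let t : Spec (CommRingCat.of B') ⟶ D.left :=
      Spec.map (CommRingCat.ofHom (Algebra.TensorProduct.includeRight : B →ₐ[A] B').toRingHom) ≫
        E.isoSpec.inv ≫ pullback.fst g.left hU.fromSpec
    have ht : t ≫ g.left = fB A' B' ≫ o := by
      have e1 : t ≫ g.left = Spec.map (CommRingCat.ofHom
          (Algebra.TensorProduct.includeRight : B →ₐ[A] B').toRingHom) ≫ fB A B ≫ hU.fromSpec := by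
        simp only [t, hψ', q', q, Category.assoc, pullback.condition]
      rw [e1]
      simp only [o, fB, ← Category.assoc, ← Spec.map_comp]
      refine congrArg (fun φ => Spec.map φ ≫ hU.fromSpec) (CommRingCat.hom_ext (RingHom.ext fun a => ?_))
      exact ((Algebra.TensorProduct.includeRight : B →ₐ[A] B').commutes a).trans
        (IsScalarTower.algebraMap_apply A A' B' a)
    refine hL A' B' (o ≫ C.hom) _ ?_
    let k : Over.mk (fB A' B' ≫ o ≫ C.hom) ⟶ D := Over.homMk t (by
      show t ≫ D.hom = fB A' B' ≫ o ≫ C.hom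
      rw [← Over.w g, reassoc_of% ht])
    have hk : (Over.homMk (fB A' B') : Over.mk (fB A' B' ≫ o ≫ C.hom) ⟶ Over.mk (o ≫ C.hom)) ≫
        etHom C o = k ≫ g := Over.OverMorphism.ext ht.symm
    refine (map_map L.obj _ (etHom C o) s).trans ?_
    refine (congrArg (fun φ : Over.mk (fB A' B' ≫ o ≫ C.hom) ⟶ C => L.obj.map φ.op s) hk).trans ?_
    exact (map_map L.obj k g s).symm.trans ((congrArg (L.obj.map k.op) hs).trans (map_zero _))

/-- An étale sheaf with injective restrictions along finite free coverings is fppf separated. -/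
lemma sep_free (hL : FreeInj L) (C : Over S) (R : Sieve C)
    (hR : R ∈ QuotSh.J Scheme.fppfPrecoverage S C) (s : L.obj.obj (op C))
    (hs : ∀ ⦃V : Over S⦄ (g : V ⟶ C), R g → L.obj.map g.op s = 0) : s = 0 := by
  rw [GrothendieckTopology.mem_over_iff] at hR
  have hR' : Sieve.overEquiv C R ∈
      Scheme.grothendieckTopology (@Flat ⊓ @LocallyOfFinitePresentation) C.left := hR
  have : (@Flat ⊓ @LocallyOfFinitePresentation : MorphismProperty Scheme.{u}).IsMultiplicative :=
    { id_mem := fun X => ⟨inferInstanceAs (Flat (𝟙 X)), inferInstanceAs (LocallyOfFinitePresentation (𝟙 X))⟩ }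
  rw [Scheme.mem_grothendieckTopology_iff] at hR'
  obtain ⟨𝒰, hle⟩ := hR'
  refine eq_zero_of_locally L s fun x => ?_
  obtain ⟨U, W, π, hxU, hπ, hπs, htower⟩ := Groth.Agent.S7198.result 𝒰.toPreZeroHypercover
    (fun i => (𝒰.map_prop i).1) (fun i => (𝒰.map_prop i).2) 𝒰.exists_eq x
  let oU : Over.mk (U.ι ≫ C.hom) ⟶ C := etHom C U.ι
  refine ⟨_, oU, (inferInstanceAs (Etale U.ι)), ⟨⟨x, hxU⟩, rfl⟩, ?_⟩
  let gπ : Over.mk (π ≫ U.ι ≫ C.hom) ⟶ Over.mk (U.ι ≫ C.hom) := Over.homMk π
  refine eq_zero_of_finLocFree hL gπ hπ hπs _ (eq_zero_of_locally L _ fun w => ?_)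
  obtain ⟨W', T, ρ, i, r, hw, hρ, hρs, hfac⟩ := htower w
  let oW : Over.mk (W'.ι ≫ π ≫ U.ι ≫ C.hom) ⟶ Over.mk (π ≫ U.ι ≫ C.hom) := Over.homMk W'.ι
  let gρ : Over.mk (ρ ≫ W'.ι ≫ π ≫ U.ι ≫ C.hom) ⟶ Over.mk (W'.ι ≫ π ≫ U.ι ≫ C.hom) := Over.homMk ρ
  refine ⟨_, oW, (inferInstanceAs (Etale W'.ι)), ⟨⟨w, hw⟩, rfl⟩, eq_zero_of_finLocFree hL gρ hρ hρs _ ?_⟩
  let a : Over.mk (ρ ≫ W'.ι ≫ π ≫ U.ι ≫ C.hom) ⟶ Over.mk (𝒰.f i ≫ C.hom) := Over.homMk r (by
    show r ≫ 𝒰.f i ≫ C.hom = ρ ≫ W'.ι ≫ π ≫ U.ι ≫ C.hom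
    rw [reassoc_of% hfac])
  have hcomp : gρ ≫ oW ≫ gπ ≫ oU = a ≫ etHom C (𝒰.f i) :=
    Over.OverMorphism.ext hfac.symm
  have hmem : R (etHom C (𝒰.f i)) :=
    (Sieve.overEquiv_iff R (𝒰.f i)).1 (hle _ _ (Presieve.ofArrows.mk i))
  have h0 := hs (gρ ≫ oW ≫ gπ ≫ oU) (hcomp ▸ R.downward_closed hmem a)
  simp only [op_comp, Functor.map_comp, ConcreteCategory.comp_apply] at h0
  exact h0

lemma isZero_of_shK_isZero (hL : FreeInj L)
    (h : IsZero ((shK Scheme.fppfPrecoverage S).obj L)) : IsZero L := by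
  have h0 : toSheafify (QuotSh.J Scheme.fppfPrecoverage S) L.obj = 0 :=
    ((sheafToPresheaf _ _).map_isZero h).eq_of_tgt _ _
  rw [IsZero.iff_id_eq_zero]
  refine Sheaf.hom_ext (NatTrans.ext (funext fun C => AddCommGrpCat.ext fun x => ?_))
  refine sep_free hL C.unop (Presheaf.equalizerSieve (F := L.obj) x 0)
    (Presheaf.equalizerSieve_mem (QuotSh.J Scheme.fppfPrecoverage S) (toSheafify (QuotSh.J Scheme.fppfPrecoverage S) L.obj) x 0 ?_) x
    fun V g hg => (hg : L.obj.map g.op x = L.obj.map g.op 0).trans (map_zero _)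
  rw [h0]
  rfl

end Groth.SmoothCoh
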