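import Groth.Agent.SmoothCoh.Weil
import Mathlib.AlgebraicGeometry.Morphisms.Smooth

/-!
# Presheaves representable by smooth algebras over every affine base
-/

set_option autoImplicit false
set_option backward.isDefEq.respectTransparency.types false

universe u

open CategoryTheory CategoryTheory.Limits AlgebraicGeometry Opposite TensorProduct

noncomputable section

namespace Groth.SmoothCoh

variable {S : Scheme.{u}}

/-- The affine scheme of an algebra over an affine scheme over `S`. -/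
abbrev aObj {A : Type u} [CommRing A] (a : Spec (CommRingCat.of A) ⟶ S) (A' : Type u) [CommRing A']
    [Algebra A A'] : Over S :=
  Over.mk (Spec.map (CommRingCat.ofHom (algebraMap A A')) ≫ a)

/-- The morphism of a map of algebras. -/
def aHom {A : Type u} [CommRing A] (a : Spec (CommRingCat.of A) ⟶ S) {A' A'' : Type u} [CommRing A']
    [Algebra A A'] [CommRing A''] [Algebra A A''] (g : A' →ₐ[A] A'') : aObj a A'' ⟶ aObj a A' :=
  Over.homMk (Spec.map (CommRingCat.ofHom g.toRingHom)) (by
    show _ ≫ _ ≫ a = _ ≫ a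
    rw [← Category.assoc, ← Spec.map_comp, ← CommRingCat.ofHom_comp]
    exact congrArg (fun φ => Spec.map (CommRingCat.ofHom φ) ≫ a) (RingHom.ext g.commutes))

theorem aHom_comp {A : Type u} [CommRing A] (a : Spec (CommRingCat.of A) ⟶ S) {A₁ A₂ A₃ : Type u}
    [CommRing A₁] [Algebra A A₁] [CommRing A₂] [Algebra A A₂] [CommRing A₃] [Algebra A A₃]
    (g : A₁ →ₐ[A] A₂) (h : A₂ →ₐ[A] A₃) : aHom a (h.comp g) = aHom a h ≫ aHom a g :=
  Over.OverMorphism.ext ((congrArg Spec.map (CommRingCat.ofHom_comp g.toRingHom h.toRingHom)).trans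
    (Spec.map_comp _ _))

theorem aHom_id {A : Type u} [CommRing A] (a : Spec (CommRingCat.of A) ⟶ S) (A' : Type u)
    [CommRing A'] [Algebra A A'] : aHom a (AlgHom.id A A') = 𝟙 _ :=
  Over.OverMorphism.ext (Spec.map_id _)

/-- `z` is a universal section of `F` on algebras over `a`. -/
def IsUniv (F : (Over S)ᵒᵖ ⥤ AddCommGrpCat.{u + 1}) {A : Type u} [CommRing A]
    (a : Spec (CommRingCat.of A) ⟶ S) {P : Type u} [CommRing P] [Algebra A P]
    (z : F.obj (op (aObj a P))) : Prop :=
  ∀ (A' : Type u) [CommRing A'] [Algebra A A'],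
    Function.Bijective fun g : P →ₐ[A] A' => F.map (aHom a g).op z

/-- Representable by a smooth algebra over every affine base. -/
def SmRep (F : (Over S)ᵒᵖ ⥤ AddCommGrpCat.{u + 1}) : Prop :=
  ∀ (A : Type u) [CommRing A] (a : Spec (CommRingCat.of A) ⟶ S),
    ∃ (P : Type u) (_ : CommRing P) (_ : Algebra A P), Algebra.Smooth A P ∧
      ∃ z : F.obj (op (aObj a P)), IsUniv F a z

theorem SmRep.of_iso {F G : (Over S)ᵒᵖ ⥤ AddCommGrpCat.{u + 1}} (e : F ≅ G) (h : SmRep F) : SmRep G := by
  intro A _ a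
  obtain ⟨P, _, _, hP, z, hz⟩ := h A a
  refine ⟨P, inferInstance, inferInstance, hP, e.hom.app _ z, fun A' _ _ => ?_⟩
  have hb : Function.Bijective (e.hom.app (op (aObj a A'))) := ConcreteCategory.bijective_of_isIso _
  convert hb.comp (hz A') using 1
  funext g
  exact (ConcreteCategory.congr_hom (e.hom.naturality (aHom a g).op) z).symm

/-- The comparison between the two ways of composing structure maps. -/
def mapIso {S' : Scheme.{u}} (k : S' ⟶ S) {A : Type u} [CommRing A] (a : Spec (CommRingCat.of A) ⟶ S')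
    (A' : Type u) [CommRing A'] [Algebra A A'] : aObj (a ≫ k) A' ≅ (Over.map k).obj (aObj a A') :=
  Over.isoMk (Iso.refl _) ((Category.id_comp _).trans (Category.assoc _ _ _))

theorem SmRep.comp_map {S' : Scheme.{u}} (k : S' ⟶ S) {F : (Over S)ᵒᵖ ⥤ AddCommGrpCat.{u + 1}}
    (h : SmRep F) : SmRep ((Over.map k).op ⋙ F) := by
  intro A _ a
  obtain ⟨P, _, _, hP, z, hz⟩ := h A (a ≫ k)
  refine ⟨P, inferInstance, inferInstance, hP, F.map (mapIso k a P).inv.op z, fun A' _ _ => ?_⟩
  have hb : Function.Bijective (F.map (mapIso k a A').inv.op) := ConcreteCategory.bijective_of_isIso _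
  convert hb.comp (hz A') using 1
  funext g
  show F.map ((Over.map k).map (aHom a g)).op (F.map (mapIso k a P).inv.op z) =
    F.map (mapIso k a A').inv.op (F.map (aHom (a ≫ k) g).op z)
  rw [← ConcreteCategory.comp_apply, ← ConcreteCategory.comp_apply, ← F.map_comp, ← F.map_comp,
    ← op_comp, ← op_comp]
  refine congrArg (fun φ => F.map (Quiver.Hom.op φ) z) (Over.OverMorphism.ext ?_)
  exact (Category.comp_id _).trans (Category.id_comp _).symm

/-- Base change along `f` followed by composition with it. -/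
abbrev theta {T : Scheme.{u}} (f : T ⟶ S) : Over S ⥤ Over S := Over.pullback f ⋙ Over.map f

/-- The presheaf `f_* f^* F`. -/
abbrev phiP {T : Scheme.{u}} (f : T ⟶ S) (F : (Over S)ᵒᵖ ⥤ AddCommGrpCat.{u + 1}) :
    (Over S)ᵒᵖ ⥤ AddCommGrpCat.{u + 1} :=
  (theta f).op ⋙ F

section Phi

variable {A₀ : Type u} [CommRing A₀] {B₀ : Type u} [CommRing B₀] [Algebra A₀ B₀]

theorem smRep_phi [Module.Free A₀ B₀] [Module.Finite A₀ B₀]
    {F : (Over (Spec (CommRingCat.of A₀)))ᵒᵖ ⥤ AddCommGrpCat.{u + 1}} (h : SmRep F) :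
    SmRep (phiP (Spec.map (CommRingCat.ofHom (algebraMap A₀ B₀))) F) := by
  intro A _ a
  obtain ⟨φ, rfl⟩ := Spec.map_surjective a
  letI : Algebra A₀ A := φ.hom.toAlgebra
  let f := Spec.map (CommRingCat.ofHom (algebraMap A₀ B₀))
  let C := A ⊗[A₀] B₀
  let bC := Algebra.TensorProduct.basis A (Module.Free.chooseBasis A₀ B₀)
  let c : Spec (CommRingCat.of C) ⟶ Spec (CommRingCat.of B₀) :=
    Spec.map (CommRingCat.ofHom (Algebra.TensorProduct.includeRight : B₀ →ₐ[A₀] C).toRingHom)
  obtain ⟨P, _, _, hP, z, hz⟩ := h C (c ≫ f)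
  obtain ⟨W, _, _, hW, u, hu⟩ := exists_smooth_weil bC P
  have sq : ∀ (A' : Type u) [CommRing A'] [Algebra A A'],
      IsPullback (Spec.map (CommRingCat.ofHom (Algebra.TensorProduct.includeRight : A' →ₐ[A] C ⊗[A] A').toRingHom))
        (Spec.map (CommRingCat.ofHom (algebraMap C (C ⊗[A] A'))) ≫ c)
        (Spec.map (CommRingCat.ofHom (algebraMap A A')) ≫ Spec.map φ) f := fun A' _ _ => by
    have h1 : IsPullback (Spec.map (CommRingCat.ofHom (Algebra.TensorProduct.includeRight : A' →ₐ[A] C ⊗[A] A').toRingHom))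
        (Spec.map (CommRingCat.ofHom (algebraMap C (C ⊗[A] A'))))
        (Spec.map (CommRingCat.ofHom (algebraMap A A'))) (Spec.map (CommRingCat.ofHom (algebraMap A C))) :=
      (isPullback_SpecMap_of_isPushout _ _ _ _ (CommRingCat.isPushout_tensorProduct A C A')).flip
    have h2 : IsPullback (Spec.map (CommRingCat.ofHom (algebraMap A C))) c (Spec.map φ) f :=
      isPullback_SpecMap_of_isPushout _ _ _ _ (CommRingCat.isPushout_tensorProduct A₀ A B₀)
    exact (h1.flip.paste_horiz h2.flip).flip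
  let κ : ∀ (A' : Type u) [CommRing A'] [Algebra A A'],
      aObj (c ≫ f) (C ⊗[A] A') ≅ (theta f).obj (aObj (Spec.map φ) A') := fun A' _ _ =>
    Over.isoMk (sq A').isoPullback (by
      show (sq A').isoPullback.hom ≫ pullback.snd _ f ≫ f = _
      rw [← Category.assoc, (sq A').isoPullback_hom_snd, Category.assoc]
      rfl)
  refine ⟨W, inferInstance, inferInstance, hW, F.map (κ W).inv.op (F.map (aHom (c ≫ f) u).op z),
    fun A' _ _ => ?_⟩
  have hb : Function.Bijective (F.map (κ A').inv.op) := ConcreteCategory.bijective_of_isIso _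
  convert hb.comp ((hz (C ⊗[A] A')).comp (hu A')) using 1
  funext g
  show F.map ((theta f).map (aHom (Spec.map φ) g)).op (F.map (κ W).inv.op (F.map (aHom (c ≫ f) u).op z)) =
    F.map (κ A').inv.op (F.map (aHom (c ≫ f) ((Algebra.TensorProduct.map (AlgHom.id C C) g).comp u)).op z)
  rw [aHom_comp, ← ConcreteCategory.comp_apply, ← ConcreteCategory.comp_apply, ← ConcreteCategory.comp_apply,
    ← F.map_comp, ← F.map_comp, ← F.map_comp, ← op_comp, ← op_comp, ← op_comp, ← Category.assoc]
  refine congrArg (fun ψ => F.map (Quiver.Hom.op (ψ ≫ aHom (c ≫ f) u)) z) ?_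
  rw [← cancel_mono (κ W).hom, Category.assoc, Iso.inv_hom_id, Category.comp_id, ← cancel_epi (κ A').hom,
    Category.assoc, Iso.hom_inv_id_assoc]
  refine Over.OverMorphism.ext ?_
  show (sq A').isoPullback.hom ≫ ((theta f).map (aHom (Spec.map φ) g)).left =
    (aHom (c ≫ f) (Algebra.TensorProduct.map (AlgHom.id C C) g)).left ≫ (sq W).isoPullback.hom
  apply pullback.hom_ext
  · refine (Category.assoc _ _ _).trans ((congrArg (_ ≫ ·) (pullback.lift_fst _ _ _)).trans ?_)
    refine Eq.trans ?_ ((congrArg (_ ≫ ·) (sq W).isoPullback_hom_fst).symm.trans (Category.assoc _ _ _).symm)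
    refine ((Category.assoc _ _ _).symm.trans (congrArg (· ≫ _) (sq A').isoPullback_hom_fst)).trans ?_
    show Spec.map _ ≫ Spec.map _ = Spec.map _ ≫ Spec.map _
    rw [← Spec.map_comp, ← Spec.map_comp]
    congr 1
  · refine (Category.assoc _ _ _).trans ((congrArg (_ ≫ ·) (pullback.lift_snd _ _ _)).trans ?_)
    refine Eq.trans ?_ ((congrArg (_ ≫ ·) (sq W).isoPullback_hom_snd).symm.trans (Category.assoc _ _ _).symm)
    refine (sq A').isoPullback_hom_snd.trans (Eq.trans ?_ (Category.assoc _ _ _))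
    show Spec.map _ ≫ c = (Spec.map _ ≫ Spec.map _) ≫ c
    refine congrArg (· ≫ c) ?_
    rw [← Spec.map_comp]
    refine congrArg Spec.map ?_
    refine CommRingCat.hom_ext (RingHom.ext fun x => ?_)
    show x ⊗ₜ[A] (1 : A') = Algebra.TensorProduct.map (AlgHom.id C C) g (x ⊗ₜ[A] (1 : W))
    simp

end Phi

end Groth.SmoothCoh
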