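import Groth.Agent.SmoothCoh.FreeInj

/-!
# Étale and fppf cohomology agree for presheaves representable by smooth algebras
-/

set_option autoImplicit false
set_option backward.isDefEq.respectTransparency.types false
set_option maxHeartbeats 1000000

universe u

open CategoryTheory CategoryTheory.Limits AlgebraicGeometry Opposite

noncomputable section

namespace Groth.SmoothCoh

open Groth.DescentBase.BigCart

local notation "K" => Scheme.fppfPrecoverage

/-- The vanishing in degrees `1, ..., n`. -/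
def VanishUpTo (n : ℕ) : Prop :=
  ∀ (S : Scheme.{u}) (M : AbS S), SmRep M.obj →
    ∀ j, 1 ≤ j → j ≤ n → IsZero (((epsK K S).rightDerived j).obj M)

variable {S T : Scheme.{u}}

lemma isZero_RpushK (f : T ⟶ S) [IsFinite f] {n : ℕ} (hn : VanishUpTo.{u} n) {M : AbS T}
    (hM : SmRep M.obj) (j : ℕ) (h1 : 1 ≤ j) (h2 : j ≤ n) :
    IsZero (((pushK K f).rightDerived j).obj M) := by
  have := preservesFiniteColimits_pushE f
  have : (pushE f).Additive := inferInstance
  obtain ⟨a⟩ := Groth.SiteCohomology.nonempty_rightDerived_comp_exact (pushK K f ⋙ epsK K S) (shK K S)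
    (pushK K f) ((Functor.rightUnitor _).symm ≪≫ Functor.isoWhiskerLeft (pushK K f) (shIso K S).symm ≪≫
      (Functor.associator _ _ _).symm) M j
  obtain ⟨b⟩ := Groth.SiteCohomology.nonempty_rightDerived_comp_exact (epsK K T) (pushE f)
    (pushK K f ⋙ epsK K S) (epsPushIso K f) M j
  exact (((shK K S).map_isZero (((pushE f).map_isZero (hn T M hM j h1 h2)).of_iso b))).of_iso a

section affine

variable {A₀ B₀ : Type u} [CommRing A₀] [CommRing B₀] [Algebra A₀ B₀] [Module.Free A₀ B₀]
  [Module.Finite A₀ B₀] [Module.FaithfullyFlat A₀ B₀]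

lemma epi_epsK_cv (M : AbS (Spec (CommRingCat.of A₀))) (hM : SmRep M.obj) :
    Epi ((epsK K _).map (cv (fB A₀ B₀) M)) := by
  refine (Sheaf.isLocallySurjective_iff_epi' AddCommGrpCat.{u + 1}
    ((epsK K _).map (cv (fB A₀ B₀) M))).1 ⟨fun {C} y => (mem_J_iff C _).2 fun x => ?_⟩
  obtain ⟨V, g, hg, hx, c, hc⟩ := exists_etale_lift M hM C y x
  exact ⟨V, g, ⟨c, hc⟩, hg, hx⟩

/-- `R^{n+1}ε M` embeds into a direct image along a finite free covering. -/
lemma exists_mono_to_push {n : ℕ} (hn : VanishUpTo.{u} n)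
    (M : AbS (Spec (CommRingCat.of A₀))) (hM : SmRep M.obj) :
    ∃ (L' : AbB (Spec (CommRingCat.of B₀)))
      (Φ : ((epsK K _).rightDerived (n + 1)).obj M ⟶ (pushE (fB A₀ B₀)).obj L'), Mono Φ := by
  let f := fB A₀ B₀
  let Z := ShortComplex.mk (uF f M) (cv f M) (uF_cv f M)
  have hZ : Z.ShortExact := shortExact_cv f M
  have hm₁ : Mono (((epsK K _).rightDerived (n + 1)).map Z.f) := by
    cases n with
    | zero =>
      have : Epi ((epsK K _).map Z.g) := epi_epsK_cv M hM
      exact mono_rightDerived_one_map (epsK K _) hZ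
    | succ m =>
      have : Epi (((epsK K _).rightDerived (m + 1)).map Z.g) :=
        ⟨fun _ _ _ => (hn _ (cZ f M) (smRep_cZ M hM) (m + 1) (by omega) le_rfl).eq_of_src _ _⟩
      exact mono_rightDerived_succ_map (epsK K _) hZ (m + 1)
  let M' := (pullK K f).obj M
  have hM' : SmRep M'.obj := hM.comp_map f
  obtain ⟨m, hm⟩ := exists_mono_rightDerived_comp (pushK K f) (epsK K _)
    (fun I _ => injective_pushK K f I) n M' (fun j h1 h2 => isZero_RpushK f hn hM' j h1 h2)
  have := preservesFiniteColimits_pushE f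
  obtain ⟨b⟩ := Groth.SiteCohomology.nonempty_rightDerived_comp_exact (epsK K _) (pushE f)
    (pushK K f ⋙ epsK K _) (epsPushIso K f) M' (n + 1)
  exact ⟨_, ((epsK K _).rightDerived (n + 1)).map Z.f ≫ m ≫ b.hom,
    @mono_comp _ _ _ _ _ _ hm₁ _ (@mono_comp _ _ _ _ _ _ hm _ inferInstance)⟩

end affine

lemma freeInj_Reps {n : ℕ} (hn : VanishUpTo.{u} n) {M : AbS S} (hM : SmRep M.obj) :
    FreeInj (((epsK K S).rightDerived (n + 1)).obj M) := by
  intro A B _ _ _ _ _ _ c s hs
  let L := ((epsK K S).rightDerived (n + 1)).obj M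
  obtain ⟨e⟩ := nonempty_pullE_Reps K c M (n + 1)
  obtain ⟨L', Φ, hΦ⟩ := exists_mono_to_push (A₀ := A) (B₀ := B) hn ((pullK K c).obj M) (hM.comp_map c)
  let P := Over.mk (𝟙 (Spec (CommRingCat.of A)))
  let j : (Over.map c).obj P ⟶ Over.mk c := Over.homMk (𝟙 _) rfl
  let j' : Over.mk c ⟶ (Over.map c).obj P :=
    Over.homMk (𝟙 _) ((Category.id_comp _).trans (Category.id_comp _))
  have hj : j' ≫ j = 𝟙 (Over.mk c) := Over.OverMorphism.ext (Category.id_comp _)
  let σ := e.hom.hom.app (op P) (L.obj.map j.op s)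
  let g' : Over.mk (fB A B) ⟶ P := Over.homMk (fB A B) (Category.comp_id _)
  let g : Over.mk (fB A B ≫ c) ⟶ Over.mk c := Over.homMk (fB A B)
  let k : (Over.map c).obj (Over.mk (fB A B)) ⟶ Over.mk (fB A B ≫ c) :=
    Over.homMk (𝟙 _) (Category.id_comp _)
  have hk : (Over.map c).map g' ≫ j = k ≫ g :=
    Over.OverMorphism.ext ((Category.comp_id _).trans (Category.id_comp _).symm)
  have h0 : L.obj.map ((Over.map c).map g').op (L.obj.map j.op s) = 0 := by
    rw [map_map, hk, ← map_map]
    exact (congrArg (L.obj.map k.op) hs).trans (map_zero _)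
  have hσ : σ = 0 := eq_zero_of_res_finite (fB A B) Φ σ
    ((ConcreteCategory.congr_hom (e.hom.hom.naturality g'.op) (L.obj.map j.op s)).symm.trans
      ((congrArg (e.hom.hom.app _) h0).trans (map_zero _)))
  have h2 : L.obj.map j.op s = 0 :=
    injective_app_of_mono e.hom (op P) (hσ.trans (map_zero _).symm)
  have h3 := (map_map L.obj j' j s).symm.trans ((congrArg (L.obj.map j'.op) h2).trans (map_zero _))
  rw [hj, map_id_apply] at h3
  exact h3

theorem vanishUpTo (n : ℕ) : VanishUpTo.{u} n := by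
  induction n with
  | zero => exact fun S M _ j h1 h2 => absurd h1 (by omega)
  | succ n ih =>
    intro S M hM j h1 h2
    rcases Nat.lt_or_ge j (n + 1) with h | h
    · exact ih S M hM j h1 (by omega)
    obtain rfl : j = n + 1 := by omega
    refine isZero_of_shK_isZero (freeInj_Reps ih hM) ?_
    obtain ⟨a⟩ := Groth.SiteCohomology.nonempty_rightDerived_comp_exact (epsK K S) (shK K S)
      (𝟭 (AbS S)) (shIso K S).symm M (n + 1)
    exact (Groth.SiteCohomology.isZero_rightDerived_succ_of_exact _ M n).of_iso a.symm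

/-- Presheaves representable by smooth algebras have no higher images on the étale site. -/
theorem isZero_Reps {M : AbS S} (hM : SmRep M.obj) (q : ℕ) (hq : 0 < q) :
    IsZero (((epsK K S).rightDerived q).obj M) :=
  vanishUpTo q S M hM q hq le_rfl

end Groth.SmoothCoh
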