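import Mathlib

/-!
# Weil restriction of smooth algebras along finite free algebras
-/

set_option autoImplicit false

universe u

open TensorProduct

namespace Groth.SmoothCoh

variable {R C : Type u} [CommRing R] [CommRing C] [Algebra R C] {ι : Type u} (b : Module.Basis ι R C)

/-- The coordinates of an element of a base change. -/
noncomputable def coord (A : Type u) [CommRing A] [Algebra R A] (i : ι) : C ⊗[R] A →ₗ[R] A :=
  (TensorProduct.lid R A).toLinearMap ∘ₗ LinearMap.rTensor A (b.coord i)

theorem coord_tmul (A : Type u) [CommRing A] [Algebra R A] (i : ι) (c : C) (a : A) :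
    coord b A i (c ⊗ₜ a) = b.coord i c • a := by simp [coord]

theorem coord_map {A A' : Type u} [CommRing A] [Algebra R A] [CommRing A'] [Algebra R A'] (h : A →ₐ[R] A')
    (z : C ⊗[R] A) (i : ι) :
    coord b A' i (Algebra.TensorProduct.map (AlgHom.id C C) h z) = h (coord b A i z) := by
  induction z using TensorProduct.induction_on with
  | zero => simp
  | tmul c a => rw [Algebra.TensorProduct.map_tmul, AlgHom.id_apply, coord_tmul, coord_tmul, map_smul]
  | add z z' hz hz' => rw [map_add, map_add, map_add, hz, hz', map_add]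

variable [Fintype ι]

theorem sum_coord {A : Type u} [CommRing A] [Algebra R A] (z : C ⊗[R] A) :
    ∑ i, b i ⊗ₜ coord b A i z = z := by
  induction z using TensorProduct.induction_on with
  | zero => simp
  | tmul c a =>
    simp only [coord_tmul, TensorProduct.tmul_smul, ← TensorProduct.smul_tmul', ← TensorProduct.sum_tmul]
    conv_rhs => rw [← b.sum_repr c, TensorProduct.sum_tmul]
    simp only [TensorProduct.smul_tmul', Module.Basis.coord_apply]
  | add z z' hz hz' => simp only [map_add, TensorProduct.tmul_add, Finset.sum_add_distrib, hz, hz']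

theorem coord_sum {A : Type u} [CommRing A] [Algebra R A] (a : ι → A) (i : ι) :
    coord b A i (∑ k, b k ⊗ₜ a k) = a i := by
  classical
  simp [map_sum, coord_tmul, Finsupp.single_apply]

/-- The Weil restriction of a smooth algebra along a finite free algebra is a smooth algebra. -/
theorem exists_smooth_weil (b : Module.Basis ι R C) (P : Type u) [CommRing P] [Algebra C P]
    [Algebra.Smooth C P] :
    ∃ (W : Type u) (_ : CommRing W) (_ : Algebra R W), Algebra.Smooth R W ∧
      ∃ u : P →ₐ[C] C ⊗[R] W, ∀ (A : Type u) [CommRing A] [Algebra R A],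
        Function.Bijective fun h : W →ₐ[R] A => (Algebra.TensorProduct.map (AlgHom.id C C) h).comp u := by
  classical
  obtain ⟨n, f, hf, G, hG⟩ := (inferInstance : Algebra.FinitePresentation C P).out
  have hG : Ideal.span (G : Set (MvPolynomial (Fin n) C)) = RingHom.ker f := hG
  let M := MvPolynomial (Fin n × ι) R
  let ev₀ : MvPolynomial (Fin n) C →ₐ[C] C ⊗[R] M :=
    MvPolynomial.aeval fun j => ∑ i, b i ⊗ₜ MvPolynomial.X (j, i)
  let S : Finset M := (G ×ˢ (Finset.univ : Finset ι)).image fun p => coord b M p.2 (ev₀ p.1)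
  let I : Ideal M := Ideal.span (S : Set M)
  let q : M →ₐ[R] M ⧸ I := Ideal.Quotient.mkₐ R I
  let ev : MvPolynomial (Fin n) C →ₐ[C] C ⊗[R] (M ⧸ I) :=
    (Algebra.TensorProduct.map (AlgHom.id C C) q).comp ev₀
  have hev : RingHom.ker f ≤ RingHom.ker ev := by
    rw [← hG, Ideal.span_le]
    intro r hr
    show ev r = 0
    rw [← sum_coord b (ev r)]
    refine Finset.sum_eq_zero fun i _ => ?_
    have : coord b (M ⧸ I) i (ev r) = 0 := by
      rw [AlgHom.comp_apply, coord_map, Ideal.Quotient.mkₐ_eq_mk, Ideal.Quotient.eq_zero_iff_mem]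
      exact Ideal.subset_span (Finset.mem_coe.2 (Finset.mem_image.2 ⟨(r, i), Finset.mem_product.2
        ⟨hr, Finset.mem_univ i⟩, rfl⟩))
    rw [this, TensorProduct.tmul_zero]
  let e := Ideal.quotientKerAlgEquivOfSurjective hf
  let u : P →ₐ[C] C ⊗[R] (M ⧸ I) :=
    (Ideal.Quotient.liftₐ (RingHom.ker f) ev fun a ha => RingHom.mem_ker.1 (hev ha)).comp e.symm.toAlgHom
  have hu : u.comp f = ev := AlgHom.ext fun x => by
    have hx : e.symm (f x) = Ideal.Quotient.mk _ x :=
      e.symm_apply_eq.2 (Ideal.quotientKerAlgEquivOfSurjective_apply hf x).symm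
    show Ideal.Quotient.liftₐ (RingHom.ker f) ev (fun a ha => RingHom.mem_ker.1 (hev ha)) (e.symm (f x)) = ev x
    rw [hx]
    rfl
  have hX : ∀ (A : Type u) [CommRing A] [Algebra R A] (h : M ⧸ I →ₐ[R] A) (j : Fin n) (i : ι),
      coord b A i (Algebra.TensorProduct.map (AlgHom.id C C) h (u (f (MvPolynomial.X j)))) =
        h (q (MvPolynomial.X (j, i))) := fun A _ _ h j i => by
    rw [← AlgHom.comp_apply u, hu, coord_map]
    congr 1
    rw [AlgHom.comp_apply, coord_map, MvPolynomial.aeval_X, coord_sum]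
  have huniv : ∀ (A : Type u) [CommRing A] [Algebra R A],
      Function.Bijective fun h : (M ⧸ I) →ₐ[R] A => (Algebra.TensorProduct.map (AlgHom.id C C) h).comp u := by
    intro A _ _
    constructor
    · intro h h' heq
      refine Ideal.Quotient.algHom_ext R (MvPolynomial.algHom_ext fun p => ?_)
      obtain ⟨j, i⟩ := p
      have h1 := congrArg (fun v : P →ₐ[C] C ⊗[R] A => coord b A i (v (f (MvPolynomial.X j)))) heq
      simp only [AlgHom.comp_apply, hX] at h1
      exact h1
    · intro v
      let h₀ : M →ₐ[R] A := MvPolynomial.aeval fun p => coord b A p.2 (v (f (MvPolynomial.X p.1)))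
      have hv : (Algebra.TensorProduct.map (AlgHom.id C C) h₀).comp ev₀ = v.comp f := by
        refine MvPolynomial.algHom_ext fun j => ?_
        rw [AlgHom.comp_apply, MvPolynomial.aeval_X, map_sum]
        conv_rhs => rw [AlgHom.comp_apply, ← sum_coord b (v (f (MvPolynomial.X j)))]
        refine Finset.sum_congr rfl fun i _ => ?_
        rw [Algebra.TensorProduct.map_tmul, AlgHom.id_apply, MvPolynomial.aeval_X]
      have hI : ∀ a ∈ I, h₀ a = 0 := by
        intro a ha
        refine RingHom.mem_ker.mp ((Ideal.span_le (I := RingHom.ker h₀)).mpr ?_ ha)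
        intro x hx
        obtain ⟨⟨r, i⟩, hri, rfl⟩ := Finset.mem_image.1 (Finset.mem_coe.1 hx)
        show h₀ (coord b M i (ev₀ r)) = 0
        rw [← coord_map, ← AlgHom.comp_apply, hv, AlgHom.comp_apply]
        have hr : r ∈ RingHom.ker f := hG ▸ Ideal.subset_span (Finset.mem_product.1 hri).1
        rw [RingHom.mem_ker.1 hr, map_zero, map_zero]
      refine ⟨Ideal.Quotient.liftₐ I h₀ hI, ?_⟩
      refine AlgHom.ext fun p => ?_
      obtain ⟨x, rfl⟩ := hf p
      have : (Algebra.TensorProduct.map (AlgHom.id C C) (Ideal.Quotient.liftₐ I h₀ hI)).comp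
          (u.comp f) = v.comp f := by
        rw [← hv, hu]
        refine MvPolynomial.algHom_ext fun j => ?_
        simp [ev, ev₀, q, map_sum]
      exact DFunLike.congr_fun this x
  have hFP : Algebra.FinitePresentation R (M ⧸ I) :=
    Algebra.FinitePresentation.quotient ⟨S, rfl⟩
  have hFS : Algebra.FormallySmooth R (M ⧸ I) := by
    refine Algebra.FormallySmooth.of_comp_surjective fun B _ _ J hJ g => ?_
    let π : C ⊗[R] B →ₐ[C] C ⊗[R] (B ⧸ J) :=
      Algebra.TensorProduct.map (AlgHom.id C C) (Ideal.Quotient.mkₐ R J)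
    have hπ : Function.Surjective π := fun z => by
      refine TensorProduct.induction_on z ⟨0, map_zero _⟩ (fun c a => ?_) (fun x y hx hy => ?_)
      · obtain ⟨a, rfl⟩ := Ideal.Quotient.mkₐ_surjective R J a
        exact ⟨c ⊗ₜ a, by simp [π]⟩
      · obtain ⟨x, rfl⟩ := hx; obtain ⟨y, rfl⟩ := hy; exact ⟨x + y, map_add _ _ _⟩
    have hker : IsNilpotent (RingHom.ker (π : C ⊗[R] B →+* C ⊗[R] (B ⧸ J))) := by
      refine ⟨2, ?_⟩
      have hle : RingHom.ker (π : C ⊗[R] B →+* C ⊗[R] (B ⧸ J)) ≤
          J.map (Algebra.TensorProduct.includeRight : B →ₐ[R] C ⊗[R] B) := by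
        intro z hz
        have h0 : ∀ i, coord b B i z ∈ J := fun i => by
          rw [← Ideal.Quotient.eq_zero_iff_mem, ← Ideal.Quotient.mkₐ_eq_mk R, ← coord_map,
            show π z = 0 from hz, map_zero]
        rw [← sum_coord b z]
        refine Ideal.sum_mem _ fun i _ => ?_
        rw [show b i ⊗ₜ[R] coord b B i z = (b i ⊗ₜ[R] (1 : B)) * ((1 : C) ⊗ₜ[R] coord b B i z) by simp]
        exact Ideal.mul_mem_left _ _ (Ideal.mem_map_of_mem _ (h0 i))
      rw [pow_two, Ideal.zero_eq_bot, ← le_bot_iff]
      refine (Ideal.mul_mono hle hle).trans ?_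
      rw [← Ideal.map_mul, ← pow_two, hJ, Ideal.map_bot]
    let v := (Algebra.TensorProduct.map (AlgHom.id C C) g).comp u
    let v' := Algebra.FormallySmooth.liftOfSurjective v π hπ hker
    obtain ⟨g', hg'⟩ := (huniv B).2 v'
    refine ⟨g', (huniv (B ⧸ J)).1 ?_⟩
    have h1 : π.comp v' = v := Algebra.FormallySmooth.comp_liftOfSurjective _ _ _ _
    rw [← hg'] at h1
    refine Eq.trans ?_ h1
    refine AlgHom.ext fun x => ?_
    show Algebra.TensorProduct.map _ ((Ideal.Quotient.mkₐ R J).comp g') (u x) = π _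
    have hmm : Algebra.TensorProduct.map (AlgHom.id C C) ((Ideal.Quotient.mkₐ R J).comp g') =
        π.comp (Algebra.TensorProduct.map (AlgHom.id C C) g') := by
      rw [← Algebra.TensorProduct.map_comp, AlgHom.id_comp]
    exact DFunLike.congr_fun hmm (u x)
  exact ⟨M ⧸ I, inferInstance, inferInstance, ⟨hFS, hFP⟩, u, huniv⟩

end Groth.SmoothCoh
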